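import Mathlib
import Cfsg.Agent.Lib.Helper26.OrthRoot

set_option autoImplicit false

/-!
# `D₄(F) ≅ PΩ₈⁺(F)`: definitions

Positions of the hyperbolic space `F⁸` with `Q = Σ xᵢ yᵢ`: `inl i ↔ eᵢ`, `inr i ↔ fᵢ`; the
partner of a position `k` is `k.swap`.  Everything is built on the Siegel transformations
`ogT p r c : x ↦ x + c (B(x,p) r − B(x,r) p)` of `Cfsg.Agent.Lib.Helper26` (file `OrthRoot`), where
`ogG F 4 = isometryGroup F (quadFormPlus 4 F)`.
-/

namespace Cfsg.Agent.Lib.helper7.Om

open Matrix Cfsg.Agent.Lib.Lead Cfsg.Agent.Lib.Helper26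

/-- positions -/
abbrev P8 : Type := Fin 4 ⊕ Fin 4

/-- the index of a position -/
def ix (c : P8) : ℕ := (Sum.elim id id c : Fin 4).val

variable {F : Type*} [Field F]

/-- the coordinate root element `x ↦ x + c (x_{k'} e_l − x_{l'} e_k)`, with root `ε_k + ε_l`
(`ε_{inr i} = −ε_i`); it is `1` unless `CValid k l` -/
noncomputable def W (k l : P8) (c : F) : ↥(ogG F 4) :=
  ogT (Pi.single k (1 : F)) (Pi.single l (1 : F)) c

/-- the subgroup generated by the coordinate root elements -/
noncomputable def EO (F : Type*) [Field F] : Subgroup ↥(ogG F 4) :=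
  Subgroup.closure {g | ∃ (k l : P8) (c : F), CValid k l ∧ g = W k l c}

/-- the subgroup generated by the coordinate root elements on the positions of index `≥ j` -/
noncomputable def EOj (F : Type*) [Field F] (j : ℕ) : Subgroup ↥(ogG F 4) :=
  Subgroup.closure {g | ∃ (k l : P8) (c : F), CValid k l ∧ j ≤ ix k ∧ j ≤ ix l ∧ g = W k l c}

/-- the diagonal of `d₄(u)` -/
def dV (u : Fˣ) : P8 → F := fun c =>
  if c = Sum.inl 3 then (u : F) else if c = Sum.inr 3 then ((u⁻¹ : Fˣ) : F) else 1

theorem dV_mul (u v : Fˣ) (c : P8) : dV u c * dV v c = dV (u * v) c := by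
  unfold dV
  split_ifs <;> simp [mul_comm]

theorem dV_one (c : P8) : dV (1 : Fˣ) c = 1 := by
  unfold dV
  split_ifs <;> simp

theorem dV_swap (u : Fˣ) (c : P8) : dV u c * dV u c.swap = 1 := by
  unfold dV
  rcases c with i | i
  · by_cases h : i = 3
    · subst h; simp
    · simp [h]
  · by_cases h : i = 3
    · subst h; simp
    · simp [h]

theorem quadPlus_diag (d x : P8 → F) (hd : ∀ c, d c * d c.swap = 1) :
    Cfsg.quadFormPlus 4 F (fun c => d c * x c) = Cfsg.quadFormPlus 4 F x := by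
  unfold Cfsg.quadFormPlus
  refine Finset.sum_congr rfl (fun i _ => ?_)
  have := hd (Sum.inl i)
  simp only [Sum.swap_inl] at this
  calc d (Sum.inl i) * x (Sum.inl i) * (d (Sum.inr i) * x (Sum.inr i))
      = (d (Sum.inl i) * d (Sum.inr i)) * (x (Sum.inl i) * x (Sum.inr i)) := by ring
    _ = x (Sum.inl i) * x (Sum.inr i) := by rw [this, one_mul]

/-- the torus element `d₄(u) = diag(u at e₄, u⁻¹ at f₄)` -/
noncomputable def dT (u : Fˣ) : ↥(ogG F 4) :=
  ⟨⟨Matrix.diagonal (dV u), Matrix.diagonal (dV u⁻¹),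
    by
      rw [Matrix.diagonal_mul_diagonal, ← Matrix.diagonal_one]
      congr 1
      funext c
      rw [dV_mul, mul_inv_cancel, dV_one],
    by
      rw [Matrix.diagonal_mul_diagonal, ← Matrix.diagonal_one]
      congr 1
      funext c
      rw [dV_mul, inv_mul_cancel, dV_one]⟩,
    (mem_isometryGroup_iff _).mpr (fun x => by
      have : (Matrix.diagonal (dV u) : Matrix P8 P8 F) *ᵥ x = fun c => dV u c * x c := by
        funext c
        rw [Matrix.mulVec_diagonal]
      show Cfsg.quadFormPlus 4 F ((Matrix.diagonal (dV u) : Matrix P8 P8 F) *ᵥ x) = _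
      rw [this]
      exact quadPlus_diag _ _ (dV_swap u))⟩

theorem dT_mulVec (u : Fˣ) (x : P8 → F) : (dT u).1.1 *ᵥ x = fun c => dV u c * x c := by
  funext c
  show ((Matrix.diagonal (dV u) : Matrix P8 P8 F) *ᵥ x) c = _
  rw [Matrix.mulVec_diagonal]

/-- the transposition of the positions `e₄`, `f₄` -/
def sw4 : Equiv.Perm P8 := Equiv.swap (Sum.inl 3) (Sum.inr 3)

theorem sw4_swap (c : P8) : sw4 c.swap = (sw4 c).swap := by
  unfold sw4
  rcases c with i | i
  · by_cases h : i = 3
    · subst h; simp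
    · have h1 : (Sum.inl i : P8) ≠ Sum.inl 3 := fun e => h (Sum.inl_injective e)
      have h2 : (Sum.inr i : P8) ≠ Sum.inr 3 := fun e => h (Sum.inr_injective e)
      rw [Sum.swap_inl, Equiv.swap_apply_of_ne_of_ne (by simp) h2,
        Equiv.swap_apply_of_ne_of_ne h1 (by simp), Sum.swap_inl]
  · by_cases h : i = 3
    · subst h; simp
    · have h1 : (Sum.inl i : P8) ≠ Sum.inl 3 := fun e => h (Sum.inl_injective e)
      have h2 : (Sum.inr i : P8) ≠ Sum.inr 3 := fun e => h (Sum.inr_injective e)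
      rw [Sum.swap_inr, Equiv.swap_apply_of_ne_of_ne h1 (by simp),
        Equiv.swap_apply_of_ne_of_ne (by simp) h2, Sum.swap_inr]

theorem quadPlus_perm (σ : Equiv.Perm P8) (hσ : ∀ c, σ c.swap = (σ c).swap) (x : P8 → F) :
    Cfsg.quadFormPlus 4 F (fun c => x (σ c)) = Cfsg.quadFormPlus 4 F x := by
  have key : ∀ y : P8 → F, Cfsg.quadFormPlus 4 F y + Cfsg.quadFormPlus 4 F y
      = ∑ c : P8, y c * y c.swap := by
    intro y
    unfold Cfsg.quadFormPlus
    rw [Fintype.sum_sum_type]
    simp only [Sum.swap_inl, Sum.swap_inr]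
    congr 1
    refine Finset.sum_congr rfl (fun i _ => ?_)
    ring
  -- avoid dividing by two: compare the sums over the positions `inl i` through a bijection
  unfold Cfsg.quadFormPlus
  -- each term `x (σ (inl i)) * x (σ (inr i))` is `x k * x k.swap` for `k = σ (inl i)`
  have h1 : ∀ i : Fin 4, x (σ (Sum.inl i)) * x (σ (Sum.inr i)) =
      x (Sum.inl (Sum.elim id id (σ (Sum.inl i)))) * x (Sum.inr (Sum.elim id id (σ (Sum.inl i)))) := by
    intro i
    have := hσ (Sum.inl i)
    rw [Sum.swap_inl] at this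
    rw [this]
    rcases σ (Sum.inl i) with j | j
    · simp
    · simp [mul_comm]
  rw [Finset.sum_congr rfl (fun i _ => h1 i)]
  -- the map `i ↦ index of σ (inl i)` is a bijection of `Fin 4`
  have hinj : Function.Injective (fun i : Fin 4 => (Sum.elim id id (σ (Sum.inl i)) : Fin 4)) := by
    intro i j hij
    simp only at hij
    have hi := hσ (Sum.inl i)
    have hj := hσ (Sum.inl j)
    rcases hsi : σ (Sum.inl i) with a | a <;> rcases hsj : σ (Sum.inl j) with b | b <;>
      rw [hsi, hsj] at hij <;> simp only [Sum.elim_inl, Sum.elim_inr, id_eq] at hij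
    · have : σ (Sum.inl i) = σ (Sum.inl j) := by rw [hsi, hsj, hij]
      exact Sum.inl_injective (σ.injective this)
    · exfalso
      rw [hsj, Sum.swap_inl, Sum.swap_inr] at hj
      have : σ (Sum.inl i) = σ (Sum.inr j) := by rw [hsi, hj, hij]
      exact Sum.inl_ne_inr (σ.injective this)
    · exfalso
      rw [hsi, Sum.swap_inl, Sum.swap_inr] at hi
      have : σ (Sum.inr i) = σ (Sum.inl j) := by rw [hsj, hi, hij]
      exact Sum.inr_ne_inl (σ.injective this)
    · have : σ (Sum.inl i) = σ (Sum.inl j) := by rw [hsi, hsj, hij]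
      exact Sum.inl_injective (σ.injective this)
  exact Function.Bijective.sum_comp (Finite.injective_iff_bijective.mp hinj)
    (fun j => x (Sum.inl j) * x (Sum.inr j))

/-- the element `τ₄` interchanging `e₄` and `f₄` -/
noncomputable def tS : ↥(ogG F 4) :=
  ⟨⟨(sw4.permMatrix F : Matrix P8 P8 F), (sw4.permMatrix F : Matrix P8 P8 F),
    by
      rw [← Matrix.permMatrix_mul]
      have : sw4 * sw4 = 1 := Equiv.swap_mul_self _ _
      rw [this, Matrix.permMatrix_one],
    by
      rw [← Matrix.permMatrix_mul]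
      have : sw4 * sw4 = 1 := Equiv.swap_mul_self _ _
      rw [this, Matrix.permMatrix_one]⟩,
    (mem_isometryGroup_iff _).mpr (fun x => by
      show Cfsg.quadFormPlus 4 F ((sw4.permMatrix F : Matrix P8 P8 F) *ᵥ x) = _
      rw [Matrix.permMatrix_mulVec]
      exact quadPlus_perm sw4 sw4_swap x)⟩

theorem tS_mulVec (x : P8 → F) : (tS : ↥(ogG F 4)).1.1 *ᵥ x = fun c => x (sw4 c) := by
  show (sw4.permMatrix F : Matrix P8 P8 F) *ᵥ x = _
  rw [Matrix.permMatrix_mulVec]
  rfl

/-- the action of a coordinate root element -/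
theorem W_mulVec {k l : P8} (h : CValid k l) (c : F) (x : P8 → F) :
    (W k l c).1.1 *ᵥ x =
      x + c • (x k.swap • (Pi.single l (1 : F) : P8 → F) - x l.swap • (Pi.single k (1 : F) : P8 → F)) := by
  rw [W, ogT_mulVec h.oSing, ob_single, ob_single]

theorem W_mul (k l : P8) (c d : F) : W k l c * W k l d = W k l (c + d) := ogT_mul _ _ c d

theorem W_zero (k l : P8) : W k l (0 : F) = 1 := ogT_zero _ _

theorem W_inv (k l : P8) (c : F) : (W k l c)⁻¹ = W k l (-c) := ogT_inv _ _ c

theorem W_swap {k l : P8} (h : CValid k l) (c : F) : W l k c = W k l (-c) :=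
  ogT_swap h.oSing c

theorem W_mem_EO {k l : P8} (h : CValid k l) (c : F) : W k l c ∈ EO F :=
  Subgroup.subset_closure ⟨k, l, c, h, rfl⟩

theorem W_mem_EOj {j : ℕ} {k l : P8} (h : CValid k l) (hk : j ≤ ix k) (hl : j ≤ ix l) (c : F) :
    W k l c ∈ EOj F j :=
  Subgroup.subset_closure ⟨k, l, c, h, hk, hl, rfl⟩

theorem EOj_le_EO (j : ℕ) : EOj F j ≤ EO F := by
  unfold EOj
  rw [Subgroup.closure_le]
  rintro _ ⟨k, l, c, h, _, _, rfl⟩
  exact W_mem_EO h c

/-- `v` is supported on the positions of index `≥ j` -/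
def Sup (j : ℕ) (v : P8 → F) : Prop := ∀ c : P8, ix c < j → v c = 0

/-- `g` fixes the basis vectors at the positions of index `< j` -/
def Fix (j : ℕ) (g : ↥(ogG F 4)) : Prop :=
  ∀ c : P8, ix c < j → g.1.1 *ᵥ (Pi.single c (1 : F) : P8 → F) = Pi.single c 1

end Cfsg.Agent.Lib.helper7.Om
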