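import Mathlib
import Cfsg.Agent.Lib.helper7.Om.Defs

set_option autoImplicit false

/-!
# `D₄(F) ≅ PΩ₈⁺(F)`: the statements of the elimination pieces, as `Prop`s
(so that the pieces can be proved independently of each other)
-/

namespace Cfsg.Agent.Lib.helper7.Om

open Matrix Cfsg.Agent.Lib.Lead Cfsg.Agent.Lib.Helper26

/-- Om-E1: a singular vector supported on the positions of index `≥ j` with coordinate `1` at `p`
is moved to the basis vector `e_p` by an element of `EOj F j` fixing the basis vector at `p.swap`. -/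
def PivotStmt (F : Type*) [Field F] : Prop :=
  ∀ (j : ℕ) (p : P8), j ≤ ix p → ∀ v : P8 → F, Sup j v → v p = 1 →
    Cfsg.quadFormPlus 4 F v = 0 →
    ∃ e ∈ EOj F j, e.1.1 *ᵥ v = Pi.single p 1 ∧
      e.1.1 *ᵥ (Pi.single p.swap (1 : F) : P8 → F) = Pi.single p.swap 1

/-- Om-E2: a nonzero singular vector supported on the positions of index `≥ i` (`i ≤ 2`) is moved
to `e_i` by an element of `EOj F i`. -/
def BasisStmt (F : Type*) [Field F] : Prop :=
  ∀ (i : Fin 4), i.val ≤ 2 → ∀ v : P8 → F, Sup i.val v → v ≠ 0 →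
    Cfsg.quadFormPlus 4 F v = 0 →
    ∃ e ∈ EOj F i.val, e.1.1 *ᵥ v = Pi.single (Sum.inl i) 1

/-- Om-E3: one step of the elimination. -/
def StepStmt (F : Type*) [Field F] : Prop :=
  ∀ (i : Fin 4), i.val ≤ 2 → ∀ g : ↥(ogG F 4), Fix i.val g →
    ∃ e ∈ EO F, Fix (i.val + 1) (e * g)

/-- Om-E4: the last stage. -/
def Fix3Stmt (F : Type*) [Field F] : Prop :=
  ∀ g : ↥(ogG F 4), Fix 3 g → ∃ u : Fˣ, g = dT u ∨ g = tS * dT u

/-- the elimination -/
def ElimStmt (F : Type*) [Field F] : Prop :=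
  ∀ g : ↥(ogG F 4), ∃ e ∈ EO F, ∃ u : Fˣ, e * g = dT u ∨ e * g = tS * dT u

end Cfsg.Agent.Lib.helper7.Om
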