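import Mathlib
import Cfsg.Agent.Lib.helper7.Om.Stmts

set_option autoImplicit false

/-!
# `D₄(F) ≅ PΩ₈⁺(F)`: piece Om-E0, basic facts on `Fix` and `Sup`
-/

namespace Cfsg.Agent.Lib.helper7.Om

open Matrix Cfsg.Agent.Lib.Lead Cfsg.Agent.Lib.Helper26

variable {F : Type*} [Field F]

theorem ix_swap (c : P8) : ix c.swap = ix c := by
  rcases c with i | i <;> rfl

/-- a coordinate root element fixes the basis vectors away from `k'`, `l'` -/
theorem W_fix_single {k l m : P8} (h : CValid k l) (hk : m ≠ k.swap) (hl : m ≠ l.swap) (c : F) :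
    (W k l c).1.1 *ᵥ (Pi.single m (1 : F) : P8 → F) = Pi.single m 1 := by
  rw [W_mulVec h, Pi.single_eq_of_ne hk.symm, Pi.single_eq_of_ne hl.symm, zero_smul, zero_smul,
    sub_zero, smul_zero, add_zero]

theorem fix_one (j : ℕ) : Fix j (1 : ↥(ogG F 4)) := fun c _ => og_one_mulVec _

theorem fix_mul {j : ℕ} {g h : ↥(ogG F 4)} (hg : Fix j g) (hh : Fix j h) : Fix j (g * h) := by
  intro c hc
  rw [og_mul_mulVec, hh c hc, hg c hc]

theorem fix_inv {j : ℕ} {g : ↥(ogG F 4)} (hg : Fix j g) : Fix j g⁻¹ := by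
  intro c hc
  have := og_inv_mulVec g (Pi.single c (1 : F) : P8 → F)
  rw [hg c hc] at this
  exact this

theorem EOj_fix (j : ℕ) (e : ↥(ogG F 4)) (he : e ∈ EOj F j) : Fix j e := by
  unfold EOj at he
  induction he using Subgroup.closure_induction with
  | mem x hx =>
    obtain ⟨k, l, c, h, hk, hl, rfl⟩ := hx
    intro m hm
    apply W_fix_single h
    · intro e
      rw [e, ix_swap] at hm
      omega
    · intro e
      rw [e, ix_swap] at hm
      omega
  | one => exact fix_one j
  | mul x y _ _ hx hy => exact fix_mul hx hy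
  | inv x _ hx => exact fix_inv hx

theorem fix_mono {j j' : ℕ} (h : j' ≤ j) {g : ↥(ogG F 4)} (hg : Fix j g) : Fix j' g :=
  fun c hc => hg c (lt_of_lt_of_le hc h)

/-- the coordinate of a vector as a value of the polar form -/
theorem coord_eq_polar (x : P8 → F) (m : P8) :
    x m = polarP F 4 x (Pi.single m.swap (1 : F)) := by
  rw [ob_single, Sum.swap_swap]

theorem sup_of_fix {j : ℕ} {g : ↥(ogG F 4)} (hg : Fix j g) (c : P8) (hc : j ≤ ix c) :
    Sup j (g.1.1 *ᵥ (Pi.single c (1 : F) : P8 → F)) := by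
  intro m hm
  rw [coord_eq_polar (g.1.1 *ᵥ (Pi.single c (1 : F) : P8 → F)) m]
  have hm' : ix m.swap < j := by rw [ix_swap]; exact hm
  rw [← hg m.swap hm', og_form, ob_single_single, Sum.swap_swap, if_neg]
  intro e
  rw [e] at hm
  omega

/-- from `Fix i` to `Fix (i+1)` -/
theorem fix_succ {i : Fin 4} {g : ↥(ogG F 4)} (hg : Fix i.val g)
    (h1 : g.1.1 *ᵥ (Pi.single (Sum.inl i) (1 : F) : P8 → F) = Pi.single (Sum.inl i) 1)
    (h2 : g.1.1 *ᵥ (Pi.single (Sum.inr i) (1 : F) : P8 → F) = Pi.single (Sum.inr i) 1) :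
    Fix (i.val + 1) g := by
  intro c hc
  by_cases h : ix c < i.val
  · exact hg c h
  · have hci : ix c = i.val := by omega
    rcases c with a | a
    · have : a = i := Fin.ext hci
      rw [this]; exact h1
    · have : a = i := Fin.ext hci
      rw [this]; exact h2

end Cfsg.Agent.Lib.helper7.Om
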