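import Mathlib

set_option autoImplicit false

/-!
Two abstract group-theoretic lemmas used for `D₄(F) ≅ PΩ₈⁺(F)`.
-/

namespace Cfsg.Agent.Lib.helper7.Om

/-- If a group `C` maps onto a simple non-commutative group `G` with central kernel, and onto a
non-commutative group `E`, then `G ≅ E / Z(E)`. -/
theorem iso_of_cover {C G E : Type*} [Group C] [Group G] [Group E]
    (θ : C →* G) (hθ : Function.Surjective θ) (hker : θ.ker ≤ Subgroup.center C)
    (σ : C →* E) (hσ : Function.Surjective σ)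
    (hG : IsSimpleGroup G) (hE : ∃ x y : E, x * y ≠ y * x) :
    Nonempty (G ≃* E ⧸ Subgroup.center E) := by
  let π : C →* E ⧸ Subgroup.center E := (QuotientGroup.mk' (Subgroup.center E)).comp σ
  have hπ : Function.Surjective π :=
    (QuotientGroup.mk'_surjective (Subgroup.center E)).comp hσ
  have h1 : θ.ker ≤ π.ker := by
    intro x hx
    have hx' : x ∈ Subgroup.center C := hker hx
    rw [MonoidHom.mem_ker]
    show (QuotientGroup.mk' (Subgroup.center E)) (σ x) = 1
    rw [QuotientGroup.mk'_apply, QuotientGroup.eq_one_iff, Subgroup.mem_center_iff]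
    intro y
    obtain ⟨c, rfl⟩ := hσ y
    rw [← map_mul, ← map_mul, Subgroup.mem_center_iff.mp hx' c]
  have h2 : π.ker ≤ θ.ker := by
    have hn : (π.ker.map θ).Normal := Subgroup.Normal.map (MonoidHom.normal_ker π) θ hθ
    rcases hn.eq_bot_or_eq_top with hb | ht
    · intro x hx
      have : θ x ∈ π.ker.map θ := Subgroup.mem_map_of_mem θ hx
      rw [hb, Subgroup.mem_bot] at this
      exact this
    · exfalso
      obtain ⟨x, y, hxy⟩ := hE
      have hall : ∀ c : C, c ∈ π.ker := by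
        intro c
        have : θ c ∈ π.ker.map θ := by rw [ht]; exact Subgroup.mem_top _
        obtain ⟨k, hk, hkc⟩ := Subgroup.mem_map.mp this
        have : c * k⁻¹ ∈ θ.ker := by
          rw [MonoidHom.mem_ker, map_mul, map_inv, hkc, mul_inv_cancel]
        have h3 := Subgroup.mul_mem _ (h1 this) hk
        rwa [inv_mul_cancel_right] at h3
      obtain ⟨c, rfl⟩ := hσ x
      have hc := hall c
      rw [MonoidHom.mem_ker] at hc
      have hc' : σ c ∈ Subgroup.center E := by
        have : (QuotientGroup.mk' (Subgroup.center E)) (σ c) = 1 := hc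
        rwa [QuotientGroup.mk'_apply, QuotientGroup.eq_one_iff] at this
      exact hxy (Subgroup.mem_center_iff.mp hc' y).symm
  have hk : θ.ker = π.ker := le_antisymm h1 h2
  exact ⟨(QuotientGroup.quotientKerEquivOfSurjective θ hθ).symm.trans
    ((QuotientGroup.quotientMulEquivOfEq hk).trans
      (QuotientGroup.quotientKerEquivOfSurjective π hπ))⟩

/-- If every element of `G` is of the form `e⁻¹ t` with `e` in a subgroup `E` and `t` in a set
`T` of elements normalizing `E` and commuting modulo `E`, then `[G, G] ≤ E`. -/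
theorem commutator_le_of_transversal {G : Type*} [Group G] (E : Subgroup G) (T : Set G)
    (h1 : ∀ g : G, ∃ e ∈ E, ∃ t ∈ T, e * g = t)
    (h2 : ∀ t ∈ T, ∀ e ∈ E, t * e * t⁻¹ ∈ E)
    (h3 : ∀ t₁ ∈ T, ∀ t₂ ∈ T, t₁ * t₂ * t₁⁻¹ * t₂⁻¹ ∈ E) :
    commutator G ≤ E := by
  have hn : E.Normal := by
    constructor
    intro x hx g
    obtain ⟨e, he, t, ht, hg⟩ := h1 g
    have : g = e⁻¹ * t := by rw [← hg]; group
    rw [this]
    have h4 := h2 t ht x hx
    have : e⁻¹ * t * x * (e⁻¹ * t)⁻¹ = e⁻¹ * (t * x * t⁻¹) * e := by group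
    rw [this]
    exact E.mul_mem (E.mul_mem (E.inv_mem he) h4) he
  have hcomm : ∀ a b : G ⧸ E, a * b = b * a := by
    intro a b
    induction a using QuotientGroup.induction_on with
    | H g₁ =>
      induction b using QuotientGroup.induction_on with
      | H g₂ =>
        obtain ⟨e₁, he₁, t₁, ht₁, hg₁⟩ := h1 g₁
        obtain ⟨e₂, he₂, t₂, ht₂, hg₂⟩ := h1 g₂
        have k1 : (g₁ : G ⧸ E) = (t₁ : G ⧸ E) := by
          rw [← hg₁, QuotientGroup.mk_mul, (QuotientGroup.eq_one_iff e₁).mpr he₁, one_mul]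
        have k2 : (g₂ : G ⧸ E) = (t₂ : G ⧸ E) := by
          rw [← hg₂, QuotientGroup.mk_mul, (QuotientGroup.eq_one_iff e₂).mpr he₂, one_mul]
        rw [k1, k2, ← QuotientGroup.mk_mul, ← QuotientGroup.mk_mul]
        rw [QuotientGroup.eq]
        have := h3 t₁ ht₁ t₂ ht₂
        have h5 : (t₁ * t₂)⁻¹ * (t₂ * t₁) = (t₂⁻¹ * t₁⁻¹ * t₂ * t₁) := by group
        rw [h5]
        have h6 := E.inv_mem (hn.conj_mem _ this (t₁⁻¹ * t₂⁻¹ )⁻¹⁻¹)
        have h7 : (t₂⁻¹ * t₁⁻¹ * t₂ * t₁) =
            ((t₁⁻¹ * t₂⁻¹)⁻¹⁻¹ * (t₁ * t₂ * t₁⁻¹ * t₂⁻¹) * ((t₁⁻¹ * t₂⁻¹)⁻¹⁻¹)⁻¹)⁻¹ := by group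
        rw [h7]
        exact h6
  rw [commutator_def, Subgroup.commutator_le]
  intro a _ b _
  rw [← QuotientGroup.eq_one_iff, commutatorElement_def]
  simp only [QuotientGroup.mk_mul, QuotientGroup.mk_inv]
  rw [hcomm (a : G ⧸ E) (b : G ⧸ E)]
  group

end Cfsg.Agent.Lib.helper7.Om
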