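import Mathlib
import Cfsg.Prelude.Def_ChevD4
import Cfsg.Agent.Lib.helper8.ChevUC12
import Cfsg.Agent.Lib.helper7.Om.Basic

set_option autoImplicit false

/-!
# `D₄(F) ≅ PΩ₈⁺(F)`: piece Om-REL, the Steinberg relations for the coordinate root elements
-/

namespace Cfsg.Agent.Lib.helper7.Om

open Matrix Cfsg.Agent.Lib.Lead Cfsg.Agent.Lib.Helper26
open Cfsg.Lie Cfsg.Lie.ChevalleyDatum Cfsg.Agent.Lib.helper8

variable {F : Type*} [Field F]

/-! ### generic relations -/

theorem sw_inj {a b : P8} (h : a.swap = b.swap) : a = b := by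
  have := congrArg Sum.swap h
  rwa [Sum.swap_swap, Sum.swap_swap] at this

theorem ne_sw_symm {a b : P8} (h : a ≠ b.swap) : b ≠ a.swap := by
  intro e
  apply h
  rw [e, Sum.swap_swap]

theorem polar_single_zero {k l : P8} (h : l ≠ k.swap) :
    polarP F 4 (Pi.single k (1 : F)) (Pi.single l 1) = 0 := by
  rw [ob_single_single, if_neg (swap_ne_of_ne_swap h)]

theorem polar_single_one (k : P8) :
    polarP F 4 (Pi.single k (1 : F)) (Pi.single k.swap 1) = 1 := by
  rw [ob_single_single, Sum.swap_swap, if_pos rfl]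

/-- two coordinate root elements without coincidences commute -/
theorem W_comm0 {k l k2 l2 : P8} (h : CValid k l) (h2 : CValid k2 l2)
    (a1 : k2 ≠ k.swap) (a2 : k2 ≠ l.swap) (a3 : l2 ≠ k.swap) (a4 : l2 ≠ l.swap) (c d : F) :
    W k l c * W k2 l2 d = W k2 l2 d * W k l c :=
  ogT_comm h.oSing h2.oSing (polar_single_zero a1) (polar_single_zero a3)
    (polar_single_zero a2) (polar_single_zero a4) c d

theorem W_self (k : P8) (c : F) : W k k c = 1 := by
  apply ogT_of_dep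
  intro h
  have := h 1 (-1) (by simp)
  exact one_ne_zero this.1

/-- the basic commutator relation -/
theorem W_G1 {k l k2 : P8} (h : CValid k l) (h2 : CValid k2 l.swap) (a1 : k2 ≠ k.swap)
    (s t : F) :
    W k l s * W k2 l.swap t = W k k2 (s * t) * (W k2 l.swap t * W k l s) := by
  have h21 : k2 ≠ l.swap := h2.1
  have e := ogT_mul_eq (F := F) h.oSing h2.oSing (polar_single_zero a1)
    (polar_single_zero (k := k) (l := l.swap) (fun e => h.1 (sw_inj e).symm))
    (polar_single_zero h21) s t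
  rw [polar_single_one, mul_one] at e
  exact e

/-- the case of a coincidence without a sum -/
theorem W_comm1 {k l : P8} (h : CValid k l) (h2 : CValid k l.swap) (s t : F) :
    W k l s * W k l.swap t = W k l.swap t * W k l s := by
  rw [W_G1 h h2 (fun e => swap_ne_self k e.symm), W_self, one_mul]

/-- first orientation: `l2 = l'` -/
theorem W_O1 {k l k2 : P8} (h : CValid k l) (h2 : CValid k2 l.swap) (h3 : CValid k k2)
    (s t : F) :
    W k l s * W k2 l.swap t = W k2 l.swap t * W k l s * W k k2 (s * t) := by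
  have a1 : k2 ≠ k.swap := h3.2
  rw [W_G1 h h2 a1]
  have c1 : W k k2 (s * t) * W k2 l.swap t = W k2 l.swap t * W k k2 (s * t) := by
    apply W_comm0 h3 h2 a1 (swap_ne_self k2).symm
    · intro e; exact h.1 (sw_inj e).symm
    · intro e; exact h2.2 e
  have c2 : W k k2 (s * t) * W k l s = W k l s * W k k2 (s * t) := by
    apply W_comm0 h3 h (swap_ne_self k).symm
    · exact ne_sw_symm a1
    · exact h.2
    · exact ne_sw_symm h2.1
  rw [← mul_assoc, c1, mul_assoc, c2, ← mul_assoc]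

/-- second orientation: `k2 = l'` -/
theorem W_O2 {k l l2 : P8} (h : CValid k l) (h2 : CValid l.swap l2) (h3 : CValid k l2)
    (s t : F) :
    W k l s * W l.swap l2 t = W l.swap l2 t * W k l s * W k l2 (-(s * t)) := by
  rw [W_swap h2.symm t, W_O1 h h2.symm h3, mul_neg]

/-- third orientation: `l2 = k'` -/
theorem W_O3 {k l k2 : P8} (h : CValid k l) (h2 : CValid k2 k.swap) (h3 : CValid l k2)
    (s t : F) :
    W k l s * W k2 k.swap t = W k2 k.swap t * W k l s * W l k2 (-(s * t)) := by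
  rw [W_swap h.symm s, W_O1 h.symm h2 h3, neg_mul]

/-- fourth orientation: `k2 = k'` -/
theorem W_O4 {k l l2 : P8} (h : CValid k l) (h2 : CValid k.swap l2) (h3 : CValid l l2)
    (s t : F) :
    W k l s * W k.swap l2 t = W k.swap l2 t * W k l s * W l l2 (s * t) := by
  rw [W_swap h.symm s, W_swap h2.symm t, W_O1 h.symm h2.symm h3, neg_mul_neg]

/-! ### the table -/

/-- first position of the root with index `r` -/
def kK (r : ℕ) : P8 := (#[Sum.inr 0, Sum.inr 0, Sum.inr 0, Sum.inr 0, Sum.inr 0, Sum.inr 0, Sum.inr 1, Sum.inr 1, Sum.inr 1, Sum.inr 1, Sum.inr 2, Sum.inr 2, Sum.inl 3, Sum.inr 3, Sum.inr 2, Sum.inl 3, Sum.inr 3, Sum.inl 2, Sum.inr 1, Sum.inr 2, Sum.inl 3, Sum.inr 3, Sum.inl 2, Sum.inl 1] : Array P8).getD r (Sum.inl 0)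

/-- second position of the root with index `r` -/
def lL (r : ℕ) : P8 := (#[Sum.inr 1, Sum.inr 2, Sum.inl 3, Sum.inr 3, Sum.inl 2, Sum.inl 1, Sum.inr 2, Sum.inl 3, Sum.inr 3, Sum.inl 2, Sum.inl 3, Sum.inr 3, Sum.inl 2, Sum.inl 2, Sum.inl 1, Sum.inl 1, Sum.inl 1, Sum.inl 1, Sum.inl 0, Sum.inl 0, Sum.inl 0, Sum.inl 0, Sum.inl 0, Sum.inl 0] : Array P8).getD r (Sum.inl 0)

/-- the sign of the root with index `r` -/
def eta (r : ℕ) : ℤ := (#[1, 1, 1, 1, -1, 1, -1, -1, -1, 1, 1, 1, 1, 1, 1, -1, -1, -1, 1, -1, 1, 1, 1, 1] : Array ℤ).getD r 1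

instance (k l : P8) : Decidable (CValid k l) := by
  unfold CValid; infer_instance

/-- the result of a commutator matches the table entry `m` with structure constant `N` -/
def MatchOK (m : ℕ) (N : ℤ) (p q : P8) (z : ℤ) : Prop :=
  (kK m = p ∧ lL m = q ∧ z = -(eta m * N)) ∨ (kK m = q ∧ lL m = p ∧ z = eta m * N)

instance (m : ℕ) (N : ℤ) (p q : P8) (z : ℤ) : Decidable (MatchOK m N p q z) := by
  unfold MatchOK; infer_instance

/-- certificate for a pair of roots whose sum is the root `m` -/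
def SumCert (r s m : ℕ) (N : ℤ) : Prop :=
  (lL r = (lL s).swap ∧ CValid (kK s) (kK r) ∧ MatchOK m N (kK s) (kK r) (eta s * eta r)) ∨
  (kK r = (lL s).swap ∧ CValid (kK s) (lL r) ∧ MatchOK m N (kK s) (lL r) (-(eta s * eta r))) ∨
  (lL r = (kK s).swap ∧ CValid (lL s) (kK r) ∧ MatchOK m N (lL s) (kK r) (-(eta s * eta r))) ∨
  (kK r = (kK s).swap ∧ CValid (lL s) (lL r) ∧ MatchOK m N (lL s) (lL r) (eta s * eta r))

instance (r s m : ℕ) (N : ℤ) : Decidable (SumCert r s m N) := by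
  unfold SumCert; infer_instance

/-- certificate for a pair of commuting roots -/
def CommCert (r s : ℕ) : Prop :=
  (kK r ≠ (kK s).swap ∧ kK r ≠ (lL s).swap ∧ lL r ≠ (kK s).swap ∧ lL r ≠ (lL s).swap) ∨
  (lL r = (lL s).swap ∧ kK r = kK s) ∨ (kK r = (lL s).swap ∧ lL r = kK s) ∨
  (lL r = (kK s).swap ∧ kK r = lL s) ∨ (kK r = (kK s).swap ∧ lL r = lL s)

instance (r s : ℕ) : Decidable (CommCert r s) := by
  unfold CommCert; infer_instance

/-- the certificate for all pairs of roots -/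
def RelCert : Prop :=
  ∀ r ∈ List.range 24, ∀ s ∈ List.range 24, s ≠ r → s ≠ chevD4.negIdx.getD r 0 →
    (chevD4.commTerms r s = [] ∧ CommCert r s) ∨
    (∃ m ∈ List.range 24, ∃ N ∈ ([1, -1] : List ℤ),
      chevD4.commTerms r s = [(m, N, 1, 1)] ∧ SumCert r s m N)

instance : Decidable RelCert := by
  unfold RelCert; infer_instance

set_option maxRecDepth 100000 in
theorem relCert : RelCert := by decide +kernel

theorem valid_tab : ∀ r ∈ List.range 24, CValid (kK r) (lL r) ∧ (eta r = 1 ∨ eta r = -1) := by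
  decide

theorem cover_tab : ∀ k l : P8, CValid k l →
    ∃ r ∈ List.range 24, (kK r = k ∧ lL r = l) ∨ (kK r = l ∧ lL r = k) := by
  decide

/-- the root elements indexed by the table of `chevD4` -/
noncomputable def Yr (r : ℕ) (t : F) : ↥(ogG F 4) :=
  if r < 24 then W (kK r) (lL r) ((eta r : F) * t) else 1

theorem Yr_lt {r : ℕ} (hr : r < 24) (t : F) : Yr r t = W (kK r) (lL r) ((eta r : F) * t) := by
  rw [Yr, if_pos hr]

theorem Yr_ge (q : ℕ) (hq : 24 ≤ q) (v : F) : Yr q v = 1 := by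
  rw [Yr, if_neg (by omega)]

theorem valid_kl {r : ℕ} (hr : r < 24) : CValid (kK r) (lL r) :=
  (valid_tab r (List.mem_range.mpr hr)).1

theorem Yr_mem (r : ℕ) (t : F) : Yr r t ∈ EO F := by
  by_cases hr : r < 24
  · rw [Yr_lt hr]
    exact W_mem_EO (valid_kl hr) _
  · rw [Yr_ge r (by omega)]
    exact Subgroup.one_mem _

theorem W_eq_Yr {k l : P8} (h : CValid k l) (c : F) : ∃ r c', W k l c = Yr r c' := by
  obtain ⟨r, hr, hkl⟩ := cover_tab k l h
  have hr' : r < 24 := List.mem_range.mp hr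
  have hsq : ((eta r : ℤ) : F) * ((eta r : ℤ) : F) = 1 := by
    rcases (valid_tab r hr).2 with e | e <;> rw [e] <;> simp
  rcases hkl with ⟨h1, h2⟩ | ⟨h1, h2⟩
  · refine ⟨r, (eta r : F) * c, ?_⟩
    rw [Yr_lt hr', h1, h2, ← mul_assoc, hsq, one_mul]
  · refine ⟨r, -((eta r : F) * c), ?_⟩
    rw [Yr_lt hr', h1, h2, mul_neg, ← mul_assoc, hsq, one_mul, W_swap h.symm]

theorem match_eq {m : ℕ} {N : ℤ} {p q : P8} {z : ℤ} (hm : MatchOK m N p q z) (hpq : CValid p q)
    (x t u : F) (hx : x = (z : F) * (u * t)) :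
    W p q x = W (kK m) (lL m) ((eta m : F) * ((N : F) * (-t) ^ 1 * u ^ 1)) := by
  rcases hm with ⟨h1, h2, h3⟩ | ⟨h1, h2, h3⟩
  · rw [h1, h2]
    congr 1
    rw [hx, h3]
    push_cast
    ring
  · rw [h1, h2, W_swap hpq.symm]
    congr 1
    rw [hx, h3]
    push_cast
    ring

theorem Yr_comm_sum {r s m : ℕ} {N : ℤ} (hr : r < 24) (hs : s < 24) (hm : m < 24)
    (hc : SumCert r s m N) (t u : F) :
    Yr s u * Yr r t = Yr r t * Yr s u * Yr m ((N : F) * (-t) ^ 1 * u ^ 1) := by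
  rw [Yr_lt hr, Yr_lt hs, Yr_lt hm]
  have vr := valid_kl hr
  have vs := valid_kl hs
  rcases hc with ⟨e, hv, hmt⟩ | ⟨e, hv, hmt⟩ | ⟨e, hv, hmt⟩ | ⟨e, hv, hmt⟩
  · rw [e] at vr ⊢
    rw [W_O1 vs vr hv]
    congr 1
    apply match_eq hmt hv _ t u
    push_cast
    ring
  · rw [e] at vr ⊢
    rw [W_O2 vs vr hv]
    congr 1
    apply match_eq hmt hv _ t u
    push_cast
    ring
  · rw [e] at vr ⊢
    rw [W_O3 vs vr hv]
    congr 1
    apply match_eq hmt hv _ t u
    push_cast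
    ring
  · rw [e] at vr ⊢
    rw [W_O4 vs vr hv]
    congr 1
    apply match_eq hmt hv _ t u
    push_cast
    ring

theorem Yr_comm_comm {r s : ℕ} (hr : r < 24) (hs : s < 24) (hc : CommCert r s) (t u : F) :
    Yr s u * Yr r t = Yr r t * Yr s u := by
  rw [Yr_lt hr, Yr_lt hs]
  have vr := valid_kl hr
  have vs := valid_kl hs
  rcases hc with ⟨a1, a2, a3, a4⟩ | ⟨e1, e2⟩ | ⟨e1, e2⟩ | ⟨e1, e2⟩ | ⟨e1, e2⟩
  · exact W_comm0 vs vr a1 a2 a3 a4 _ _
  · rw [e1, e2] at vr ⊢
    exact W_comm1 vs vr _ _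
  · rw [e1, e2] at vr ⊢
    rw [W_swap vr.symm]
    exact W_comm1 vs vr.symm _ _
  · rw [e1, e2] at vr ⊢
    rw [W_swap vs.symm]
    exact W_comm1 vs.symm vr _ _
  · rw [e1, e2] at vr ⊢
    rw [W_swap vs.symm, W_swap vr.symm]
    exact W_comm1 vs.symm vr.symm _ _

theorem Yr_sys : H8Sys chevD4 (Yr (F := F)) := by
  constructor
  · intro r hr t u
    have hr' : r < 24 := hr
    rw [Yr_lt hr', Yr_lt hr', Yr_lt hr', W_mul, mul_add]
  · intro r hr s hs h1 h2 t u
    have hr' : r < 24 := hr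
    have hs' : s < 24 := hs
    rcases relCert r (List.mem_range.mpr hr') s (List.mem_range.mpr hs') h1 h2 with
      ⟨e, hc⟩ | ⟨m, hm, N, _, e, hc⟩
    · unfold ChevalleyDatum.commWord
      rw [e, List.map_nil, h8wX_nil, mul_one]
      exact Yr_comm_comm hr' hs' hc t u
    · unfold ChevalleyDatum.commWord
      rw [e, List.map_cons, List.map_nil, h8wX_cons, h8wX_nil, mul_one]
      exact Yr_comm_sum hr' hs' (List.mem_range.mp hm) hc t u

end Cfsg.Agent.Lib.helper7.Om
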