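import Mathlib
import Cfsg.Agent.Lib.helper7.Om.Rel
import Cfsg.Agent.Lib.helper7.Om.Grp
import Cfsg.Agent.S2396
import Cfsg.Agent.S1054
import Cfsg.Agent.Lib.Helper21.OmCOMM
import Cfsg.Agent.Lib.Helper21.OmCONJ
import Cfsg.Agent.Lib.Helper21.OmE3
import Cfsg.Agent.Lib.Helper26.OmH
import Cfsg.Agent.Lib.Helper28.OmE1
import Cfsg.Agent.Lib.Helper28.OmE2
import Cfsg.Agent.Lib.Helper10.OmE4

set_option autoImplicit false

/-!
# `D₄(F) ≅ PΩ₈⁺(F)`: the final assembly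
-/

namespace Cfsg.Agent.Lib.helper7.Om

open Matrix Cfsg.Agent.Lib.Lead Cfsg.Agent.Lib.Helper26
open Cfsg.Lie Cfsg.Lie.ChevalleyDatum Cfsg.Agent.Lib.helper8

variable {F : Type*} [Field F]

/-! ### the pieces proved by the team -/

theorem W_mem_commutator {k l : P8} (h : CValid k l) (c : F) :
    W k l c ∈ commutator ↥(ogG F 4) := Cfsg.Agent.Lib.Helper21.Om.W_mem_commutator h c

theorem dT_mul (u v : Fˣ) : (dT u * dT v : ↥(ogG F 4)) = dT (u * v) :=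
  Cfsg.Agent.Lib.Helper21.Om.dT_mul u v

theorem dT_one : (dT (1 : Fˣ) : ↥(ogG F 4)) = 1 := Cfsg.Agent.Lib.Helper21.Om.dT_one

theorem tS_mul_self : (tS * tS : ↥(ogG F 4)) = 1 := Cfsg.Agent.Lib.Helper21.Om.tS_mul_self

theorem tS_conj_dT (u : Fˣ) : (tS * dT u * tS⁻¹ : ↥(ogG F 4)) = dT u⁻¹ :=
  Cfsg.Agent.Lib.Helper21.Om.tS_conj_dT u

theorem dT_conj_mem (u : Fˣ) (e : ↥(ogG F 4)) (he : e ∈ EO F) : dT u * e * (dT u)⁻¹ ∈ EO F :=
  Cfsg.Agent.Lib.Helper21.Om.dT_conj_mem u e he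

theorem tS_conj_mem (e : ↥(ogG F 4)) (he : e ∈ EO F) : tS * e * tS⁻¹ ∈ EO F :=
  Cfsg.Agent.Lib.Helper21.Om.tS_conj_mem e he

theorem dT_sq_mem (u : Fˣ) : dT (u * u) ∈ EO F := Cfsg.Agent.Lib.Helper26.Om.dT_sq_mem u

/-! ### the elimination -/

theorem elim_of (hS : StepStmt F) (h3 : Fix3Stmt F) : ElimStmt F := by
  intro g
  have h0 : Fix (0 : Fin 4).val g := fun c hc => absurd hc (Nat.not_lt_zero _)
  obtain ⟨e0, he0, f1⟩ := hS 0 (by simp) g h0
  obtain ⟨e1, he1, f2⟩ := hS 1 (by simp) (e0 * g) f1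
  obtain ⟨e2, he2, f3⟩ := hS 2 (by simp) (e1 * (e0 * g)) f2
  obtain ⟨u, hu⟩ := h3 _ f3
  refine ⟨e2 * e1 * e0, mul_mem (mul_mem he2 he1) he0, u, ?_⟩
  rw [mul_assoc, mul_assoc]
  exact hu

theorem elim_main : ElimStmt F :=
  elim_of (Cfsg.Agent.Lib.Helper21.Om.step Cfsg.Agent.Lib.Helper28.Om.pivot
    (Cfsg.Agent.Lib.Helper28.Om.to_basis Cfsg.Agent.Lib.Helper28.Om.pivot)) Cfsg.Agent.Lib.Helper10.Om.fix3

theorem dT_inv (u : Fˣ) : (dT u : ↥(ogG F 4))⁻¹ = dT u⁻¹ := by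
  rw [inv_eq_iff_mul_eq_one, dT_mul, mul_inv_cancel, dT_one]

theorem tS_inv : (tS : ↥(ogG F 4))⁻¹ = tS := by
  rw [inv_eq_iff_mul_eq_one, tS_mul_self]

theorem tS_dT (u : Fˣ) : (tS * dT u : ↥(ogG F 4)) = dT u⁻¹ * tS := by
  have := tS_conj_dT (F := F) u
  rw [← this, tS_inv, mul_assoc, mul_assoc, tS_mul_self, mul_one]

theorem tS_dT_assoc (u : Fˣ) (y : ↥(ogG F 4)) : tS * (dT u * y) = dT u⁻¹ * (tS * y) := by
  rw [← mul_assoc, tS_dT, mul_assoc]

theorem tS_tS_assoc (y : ↥(ogG F 4)) : tS * (tS * y) = y := by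
  rw [← mul_assoc, tS_mul_self, one_mul]

theorem dT_dT_assoc (u v : Fˣ) (y : ↥(ogG F 4)) : dT u * (dT v * y) = dT (u * v) * y := by
  rw [← mul_assoc, dT_mul]

theorem dT_sq_mem' (u w : Fˣ) (h : u = w * w) : dT u ∈ EO F := by
  rw [h]; exact dT_sq_mem w

theorem omega_le : commutator ↥(ogG F 4) ≤ EO F := by
  apply commutator_le_of_transversal (EO F) {t | ∃ u : Fˣ, t = dT u ∨ t = tS * dT u}
  · intro g
    obtain ⟨e, he, u, hu⟩ := elim_main g
    exact ⟨e, he, e * g, ⟨u, hu⟩, rfl⟩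
  · rintro t ⟨u, rfl | rfl⟩ e he
    · exact dT_conj_mem u e he
    · have := tS_conj_mem _ (dT_conj_mem u e he)
      have e1 : tS * dT u * e * (tS * dT u)⁻¹ = tS * (dT u * e * (dT u)⁻¹) * tS⁻¹ := by group
      rw [e1]
      exact this
  · rintro t₁ ⟨u, rfl | rfl⟩ t₂ ⟨v, rfl | rfl⟩
    · have : dT u * dT v * (dT u)⁻¹ * (dT v)⁻¹ = (1 : ↥(ogG F 4)) := by
        simp only [dT_inv, dT_mul]
        rw [← dT_one]
        congr 1
        rw [mul_comm u v, mul_assoc, mul_assoc, mul_inv_cancel_left, mul_inv_cancel]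
      rw [this]
      exact Subgroup.one_mem _
    · have : dT u * (tS * dT v) * (dT u)⁻¹ * (tS * dT v)⁻¹ = (dT (u * u) : ↥(ogG F 4)) := by
        simp only [_root_.mul_inv_rev, dT_inv, tS_inv, mul_assoc, tS_dT_assoc, tS_dT, tS_tS_assoc,
          tS_mul_self, dT_dT_assoc, dT_mul, mul_one, inv_inv]
        congr 1
        rw [mul_left_comm v⁻¹ u v, inv_mul_cancel, mul_one]
      rw [this]
      exact dT_sq_mem u
    · have : tS * dT u * dT v * (tS * dT u)⁻¹ * (dT v)⁻¹ = (dT (v⁻¹ * v⁻¹) : ↥(ogG F 4)) := by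
        simp only [_root_.mul_inv_rev, dT_inv, tS_inv, mul_assoc, tS_dT_assoc, tS_dT, tS_tS_assoc,
          tS_mul_self, dT_dT_assoc, dT_mul, mul_one, inv_inv]
        congr 1
        rw [mul_left_comm v⁻¹ u v⁻¹, inv_mul_cancel_left]
      rw [this]
      exact dT_sq_mem v⁻¹
    · have : tS * dT u * (tS * dT v) * (tS * dT u)⁻¹ * (tS * dT v)⁻¹ =
          (dT ((u⁻¹ * v) * (u⁻¹ * v)) : ↥(ogG F 4)) := by
        simp only [_root_.mul_inv_rev, dT_inv, tS_inv, mul_assoc, tS_dT_assoc, tS_dT, tS_tS_assoc,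
          tS_mul_self, dT_dT_assoc, dT_mul, mul_one, inv_inv]
      rw [this]
      exact dT_sq_mem _

theorem omega_ge : EO F ≤ commutator ↥(ogG F 4) := by
  unfold EO
  rw [Subgroup.closure_le]
  rintro _ ⟨k, l, c, h, rfl⟩
  exact W_mem_commutator h c

theorem omega_eq : Cfsg.Omega F (Cfsg.quadFormPlus 4 F) = EO F :=
  le_antisymm omega_le omega_ge

/-- the table-indexed root elements, as elements of `EO F` -/
noncomputable def Yr' (r : ℕ) (t : F) : ↥(EO F) := ⟨Yr r t, Yr_mem r t⟩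

theorem coe_h8wX (w : List (ℕ × F)) :
    ((h8wX (Yr' (F := F)) w : ↥(EO F)) : ↥(ogG F 4)) = h8wX (Yr (F := F)) w := by
  induction w with
  | nil => rfl
  | cons p w ih =>
    rw [h8wX_cons, h8wX_cons, Subgroup.coe_mul, ih]
    rfl

theorem Yr'_sys : H8Sys chevD4 (Yr' (F := F)) := by
  constructor
  · intro r hr t u
    apply Subtype.ext
    exact Yr_sys.add r hr t u
  · intro r hr s hs h1 h2 t u
    apply Subtype.ext
    rw [Subgroup.coe_mul, Subgroup.coe_mul, Subgroup.coe_mul, coe_h8wX]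
    exact Yr_sys.comm r hr s hs h1 h2 t u

theorem Yr'_ge (q : ℕ) (hq : chevD4.nroots ≤ q) (v : F) : Yr' q v = 1 :=
  Subtype.ext (Yr_ge q hq v)

/-- the homomorphism from the cover onto `EO F` -/
noncomputable def sigmaE (F : Type*) [Field F] : chevD4.SteinbergCover F →* ↥(EO F) :=
  h8ucSigma chevD4 (Yr' (F := F)) Yr'_sys Yr'_ge

theorem sigmaE_surj : Function.Surjective (sigmaE F) := by
  rw [← MonoidHom.range_eq_top, eq_top_iff]
  have h1 : Subgroup.closure (((↑) : ↥(EO F) → ↥(ogG F 4)) ⁻¹'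
      {g | ∃ (k l : P8) (c : F), CValid k l ∧ g = W k l c}) = ⊤ :=
    Subgroup.closure_closure_coe_preimage
  rw [← h1, Subgroup.closure_le]
  rintro x ⟨k, l, c, h, hx⟩
  obtain ⟨r, c', hc⟩ := W_eq_Yr h c
  refine ⟨chevD4.scGen F r c', ?_⟩
  rw [sigmaE, h8ucSigma_gen]
  apply Subtype.ext
  rw [hx, hc]
  rfl

theorem EO_noncomm : ∃ x y : ↥(EO F), x * y ≠ y * x := by
  have h1 : CValid (Sum.inl 0 : P8) (Sum.inl 1) := by decide
  have h2 : CValid (Sum.inl 2 : P8) (Sum.inr 1) := by decide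
  have h3 : CValid (Sum.inl 0 : P8) (Sum.inl 2) := by decide
  refine ⟨⟨W (Sum.inl 0) (Sum.inl 1) 1, W_mem_EO h1 1⟩,
    ⟨W (Sum.inl 2) (Sum.inr 1) 1, W_mem_EO h2 1⟩, ?_⟩
  intro e
  have e' := congrArg Subtype.val e
  simp only [Subgroup.coe_mul] at e'
  have h4 := W_O1 (F := F) (k := Sum.inl 0) (l := Sum.inl 1) (k2 := Sum.inl 2) h1 h2 h3 1 1
  rw [Sum.swap_inl] at h4
  rw [e'] at h4
  have h5 : W (Sum.inl 0 : P8) (Sum.inl 2) ((1 : F) * 1) = 1 := by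
    have := h4.symm
    rwa [mul_eq_left] at this
  have h6 := (ogT_eq_one_iff (F := F) h3.oSing h3.oInd).mp h5
  rw [mul_one] at h6
  exact one_ne_zero h6

theorem main : Nonempty (↥(chevD4.group F) ≃* Cfsg.POmega F (Cfsg.quadFormPlus 4 F)) := by
  obtain ⟨θ, hθ, hker, _⟩ := Cfsg.Agent.S2396.result (K := F) chevD4 (by simp) (by
    intro h
    exfalso
    simp only [List.mem_cons, List.not_mem_nil, or_false] at h
    have hB2 : Cfsg.Lie.chevB2.rank = 2 := rfl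
    have hG2 : Cfsg.Lie.chevG2.rank = 2 := rfl
    have hD4 : Cfsg.Lie.chevD4.rank = 4 := rfl
    rcases h with h | h
    · have := congrArg Cfsg.Lie.ChevalleyDatum.rank h
      rw [hB2, hD4] at this
      omega
    · have := congrArg Cfsg.Lie.ChevalleyDatum.rank h
      rw [hG2, hD4] at this
      omega)
  have hs := (Cfsg.Agent.S1054.result (F := F) chevD4 (by simp)).1
  obtain ⟨e⟩ := iso_of_cover θ hθ hker (sigmaE F) sigmaE_surj hs EO_noncomm
  unfold Cfsg.POmega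
  rw [omega_eq]
  exact ⟨e⟩

end Cfsg.Agent.Lib.helper7.Om
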